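import Groth.Agent.Lib.FrobDer12.Power
import Groth.Agent.Lib.LimStage.Exists
import Groth.Agent.Lib.AmpSpread10.Descend
import Groth.Agent.Lib.AmpSpread10.LimAmple
import Groth.Agent.Lib.Frob.Perfect
import Groth.Agent.Lib.Ample.Criterion
import Groth.Agent.Lib.Ample.Functorial

/-!
# The perfection as the limit of the Frobenius tower, and invertible modules on it
-/

set_option autoImplicit false
set_option linter.all false
set_option backward.isDefEq.respectTransparency false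
set_option maxHeartbeats 1000000

universe u

open CategoryTheory CategoryTheory.Limits AlgebraicGeometry Opposite TopologicalSpace

noncomputable section

namespace GrothLib.PerfLim10

theorem cl_eq_iff {Y : Scheme.{u}} {L M : Y.Modules} : PicF.cl L = PicF.cl M ↔ Nonempty (L ≅ M) := by
  refine ⟨fun h => ?_, fun h => Quot.sound h⟩
  have hr : Equivalence fun L L' : Y.Modules => Nonempty (L ≅ L') :=
    ⟨fun _ => ⟨Iso.refl _⟩, fun ⟨e⟩ => ⟨e.symm⟩, fun ⟨e⟩ ⟨e'⟩ => ⟨e ≪≫ e'⟩⟩
  exact hr.eqvGen_iff.mp (Quot.eqvGen_exact h)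

/-! ### Powers of invertible modules -/

section Powers

variable {X : Scheme.{u}}

theorem nonempty_tensorPow_congr {L M : X.Modules} (hM : PicF.IsInvertible M) (e : L ≅ M) (k : ℕ) :
    Nonempty (CohB1.tensorPow L k ≅ CohB1.tensorPow M k) := by
  obtain ⟨c, ⟨e₀⟩⟩ := Ample.exists_cocycle hM
  obtain ⟨a⟩ := c.nonempty_tensorPow_iso (e ≪≫ e₀) k
  obtain ⟨b⟩ := c.nonempty_tensorPow_iso e₀ k
  exact ⟨a ≪≫ b.symm⟩

theorem nonempty_tensorPow_one {L : X.Modules} (hL : PicF.IsInvertible L) :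
    Nonempty (CohB1.tensorPow L 1 ≅ L) := by
  obtain ⟨c, ⟨e⟩⟩ := Ample.exists_cocycle hL
  obtain ⟨a⟩ := c.nonempty_tensorPow_iso e 1
  exact ⟨a ≪≫ e.symm⟩

theorem nonempty_tensorPow_tensorPow {L : X.Modules} (hL : PicF.IsInvertible L) (a b : ℕ) :
    Nonempty (CohB1.tensorPow (CohB1.tensorPow L a) b ≅ CohB1.tensorPow L (a * b)) := by
  obtain ⟨c, ⟨e⟩⟩ := Ample.exists_cocycle hL
  obtain ⟨d⟩ := c.nonempty_tensorPow_iso_pow e a
  obtain ⟨d'⟩ := (c.pow a).nonempty_tensorPow_iso d b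
  obtain ⟨q⟩ := c.nonempty_pow_twist a b
  obtain ⟨r⟩ := c.nonempty_tensorPow_iso e (a * b)
  exact ⟨d' ≪≫ q ≪≫ r.symm⟩

theorem isInvertible_tensorPow {L : X.Modules} (hL : PicF.IsInvertible L) (k : ℕ) :
    PicF.IsInvertible (CohB1.tensorPow L k) := by
  obtain ⟨c, ⟨e⟩⟩ := Ample.exists_cocycle hL
  obtain ⟨d⟩ := c.nonempty_tensorPow_iso_pow e k
  exact (c.pow k).isInvertible_of_iso d

end Powers

section Tower

variable (p : ℕ) [Fact p.Prime] (X : Scheme.{u}) [FrobSch.IsCharP X p]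

/-- Iterates of Frobenius. -/
def fpow : ℕ → (X ⟶ X)
  | 0 => 𝟙 X
  | n + 1 => fpow n ≫ FrobSch.frob X p

theorem fpow_add (a : ℕ) : ∀ b, fpow p X (a + b) = fpow p X a ≫ fpow p X b
  | 0 => (Category.comp_id _).symm
  | b + 1 => by
    show fpow p X (a + b) ≫ _ = _
    rw [fpow_add a b, Category.assoc]
    rfl

instance isAffineHom_fpow : ∀ n, IsAffineHom (fpow p X n)
  | 0 => inferInstanceAs (IsAffineHom (𝟙 X))
  | n + 1 => by
    haveI := isAffineHom_fpow n
    exact inferInstanceAs (IsAffineHom (fpow p X n ≫ FrobSch.frob X p))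

/-- The index category of the tower. -/
abbrev Idx : Type u := (ULift.{u} ℕ)ᵒᵖ

/-- The stage `n` of the tower. -/
abbrev st (n : ℕ) : Idx.{u} := op ⟨n⟩

/-- The Frobenius tower. -/
def tower : Idx.{u} ⥤ Scheme.{u} where
  obj _ := X
  map {a b} _ := fpow p X (a.unop.down - b.unop.down)
  map_id a := by simp [fpow]
  map_comp {a b c} f g := by
    have h1 : b.unop.down ≤ a.unop.down := ULift.down_le.2 (leOfHom f.unop)
    have h2 : c.unop.down ≤ b.unop.down := ULift.down_le.2 (leOfHom g.unop)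
    rw [← fpow_add]
    congr 1
    omega

instance : ∀ (a b : Idx.{u}) (φ : a ⟶ b), IsAffineHom ((tower p X).map φ) :=
  fun a b φ => isAffineHom_fpow p X _

instance [CompactSpace X] (a : Idx.{u}) : CompactSpace ((tower p X).obj a) := ‹CompactSpace X›

instance [QuasiSeparatedSpace X] (a : Idx.{u}) : QuasiSeparatedSpace ((tower p X).obj a) := ‹QuasiSeparatedSpace X›

theorem tower_w (c : Cone (tower p X)) (m n : ℕ) (h : m ≤ n) :
    c.π.app (st n) ≫ fpow p X (n - m) = c.π.app (st m) :=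
  c.w (show st n ⟶ st m from (homOfLE (show (⟨m⟩ : ULift.{u} ℕ) ≤ ⟨n⟩ from h)).op)

/-- The limit of the Frobenius tower is a perfection. -/
theorem isPerfection_π_zero {c : Cone (tower p X)} (hc : IsLimit c) [FrobSch.IsCharP c.pt p] :
    FrobSch.IsPerfection (show c.pt ⟶ X from c.π.app (st 0)) p := by
  let q : ℕ → (c.pt ⟶ X) := fun n => c.π.app (st n)
  have hq : ∀ m n, m ≤ n → q n ≫ fpow p X (n - m) = q m := fun m n h => tower_w p X c m n h
  have hq1 : ∀ n, q (n + 1) ≫ FrobSch.frob X p = q n := fun n => by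
    have h := hq n (n + 1) (Nat.le_succ n)
    rw [Nat.add_sub_cancel_left] at h
    simpa [fpow] using h
  -- perfectness
  let s : Cone (tower p X) :=
    { pt := c.pt
      π :=
        { app := fun a => q (a.unop.down + 1)
          naturality := fun a b f => by
            show 𝟙 c.pt ≫ q (b.unop.down + 1) = q (a.unop.down + 1) ≫ fpow p X (a.unop.down - b.unop.down)
            have h := hq (b.unop.down + 1) (a.unop.down + 1) (Nat.add_le_add_right (ULift.down_le.2 (leOfHom f.unop)) 1)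
            rw [Nat.add_sub_add_right] at h
            rw [Category.id_comp, h] } }
  let σ : c.pt ⟶ c.pt := hc.lift s
  have hσ : ∀ n, σ ≫ q n = q (n + 1) := fun n => hc.fac s (st n)
  have h1 : σ ≫ FrobSch.frob c.pt p = 𝟙 c.pt := hc.hom_ext fun a => by
    show (σ ≫ FrobSch.frob c.pt p) ≫ q a.unop.down = 𝟙 c.pt ≫ q a.unop.down
    rw [Category.assoc, FrobSch.frob_comp, ← Category.assoc, hσ, hq1, Category.id_comp]
  have h2 : FrobSch.frob c.pt p ≫ σ = 𝟙 c.pt := hc.hom_ext fun a => by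
    show (FrobSch.frob c.pt p ≫ σ) ≫ q a.unop.down = 𝟙 c.pt ≫ q a.unop.down
    rw [Category.assoc, hσ, FrobSch.frob_comp, hq1, Category.id_comp]
  show FrobSch.IsPerfection (q 0) p
  refine ⟨⟨σ, h2, h1⟩, fun Y _ hY => ⟨fun g g' hgg => ?_, fun g => ?_⟩⟩
  · haveI : IsIso (FrobSch.frob Y p) := hY
    have key : ∀ n, g ≫ q n = g' ≫ q n := by
      intro n
      induction n with
      | zero => exact hgg
      | succ n ih =>
        have e1 : ∀ r : Y ⟶ c.pt, FrobSch.frob Y p ≫ r ≫ q (n + 1) = r ≫ q n := fun r => by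
          rw [FrobSch.frob_comp, Category.assoc, hq1]
        rw [← cancel_epi (FrobSch.frob Y p), e1, e1]
        exact ih
    exact hc.hom_ext fun a => key a.unop.down
  · haveI : IsIso (FrobSch.frob Y p) := hY
    let gn : ℕ → (Y ⟶ X) := fun n => Nat.rec g (fun _ r => inv (FrobSch.frob Y p) ≫ r) n
    have hgn : ∀ n, gn (n + 1) ≫ FrobSch.frob X p = gn n := fun n => by
      rw [← FrobSch.frob_comp]
      exact IsIso.hom_inv_id_assoc (FrobSch.frob Y p) (gn n)
    have hgd : ∀ m k, gn (m + k) ≫ fpow p X k = gn m := by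
      intro m k
      induction k with
      | zero => exact Category.comp_id _
      | succ k ih =>
        have : fpow p X (k + 1) = FrobSch.frob X p ≫ fpow p X k := by
          rw [Nat.add_comm k 1, fpow_add]
          simp [fpow]
        rw [this, ← Category.assoc, show m + (k + 1) = (m + k) + 1 from rfl, hgn, ih]
    let t : Cone (tower p X) :=
      { pt := Y
        π :=
          { app := fun a => gn a.unop.down
            naturality := fun a b f => by
              show 𝟙 Y ≫ gn b.unop.down = gn a.unop.down ≫ fpow p X (a.unop.down - b.unop.down)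
              have hle : b.unop.down ≤ a.unop.down := ULift.down_le.2 (leOfHom f.unop)
              have h := hgd b.unop.down (a.unop.down - b.unop.down)
              rw [Nat.add_sub_cancel' hle] at h
              rw [Category.id_comp, h] } }
    exact ⟨hc.lift t, hc.fac t (st 0)⟩

/-- Every scheme of characteristic `p` has a perfection. -/
theorem exists_perfection : ∃ (XP : Scheme.{u}) (_ : FrobSch.IsCharP XP p) (π : XP ⟶ X),
    FrobSch.IsPerfection π p := by
  haveI := LimStage.hasLimit_affineTransition (tower p X)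
  haveI : FrobSch.IsCharP (limit.cone (tower p X)).pt p :=
    FrobSch.IsCharP.of_hom (show (limit.cone (tower p X)).pt ⟶ X from (limit.cone (tower p X)).π.app (st 0)) p
  exact ⟨_, inferInstance, _, isPerfection_π_zero p X (limit.isLimit (tower p X))⟩

/-- **The perfection is the limit of the Frobenius tower.** -/
theorem exists_limit {XP : Scheme.{u}} [FrobSch.IsCharP XP p] {π : XP ⟶ X} (hπ : FrobSch.IsPerfection π p) :
    ∃ (c : Cone (tower p X)) (_ : IsLimit c) (e : XP ≅ c.pt), e.hom ≫ c.π.app (st 0) = π := by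
  haveI := LimStage.hasLimit_affineTransition (tower p X)
  let c := limit.cone (tower p X)
  have hc : IsLimit c := limit.isLimit _
  haveI : FrobSch.IsCharP c.pt p := FrobSch.IsCharP.of_hom (show c.pt ⟶ X from c.π.app (st 0)) p
  have hP := isPerfection_π_zero p X hc
  obtain ⟨e, he⟩ := Frob.exists_iso_of_isPerfection hπ hP
  exact ⟨c, hc, e, he⟩

variable {p X}

/-- The pullback along an iterate of Frobenius is a power. -/
theorem nonempty_pullback_fpow {L : X.Modules} (hL : PicF.IsInvertible L) :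
    ∀ n, Nonempty ((Scheme.Modules.pullback (fpow p X n)).obj L ≅ CohB1.tensorPow L (p ^ n))
  | 0 => by
    rw [pow_zero]
    obtain ⟨e⟩ := nonempty_tensorPow_one hL
    exact ⟨(Scheme.Modules.pullbackId X).app L ≪≫ e.symm⟩
  | n + 1 => by
    obtain ⟨ih⟩ := nonempty_pullback_fpow hL n
    haveI := FrobDer12.isIso_toPow L p hL
    let t : (Scheme.Modules.pullback (FrobSch.frob X p)).obj L ≅ CohB1.tensorPow L p := asIso (FrobDer12.toPow L p hL)
    obtain ⟨p₁⟩ := Ample.nonempty_pullback_tensorPow (fpow p X n) hL p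
    obtain ⟨p₂⟩ := nonempty_tensorPow_congr (isInvertible_tensorPow hL _) ih p
    obtain ⟨p₃⟩ := nonempty_tensorPow_tensorPow hL (p ^ n) p
    rw [pow_succ]
    exact ⟨((Scheme.Modules.pullbackComp (fpow p X n) (FrobSch.frob X p)).app L).symm ≪≫
      (Scheme.Modules.pullback (fpow p X n)).mapIso t ≪≫ p₁ ≪≫ p₂ ≪≫ p₃⟩

end Tower

section Trivial

variable {I : Type u} [SmallCategory I] [IsCofiltered I] {D : I ⥤ Scheme.{u}} {c : Cone D} (hc : IsLimit c)
  [∀ (i j : I) (φ : i ⟶ j), IsAffineHom (D.map φ)] [∀ i, CompactSpace (D.obj i)]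
  [∀ i, QuasiSeparatedSpace (D.obj i)]

include hc in
/-- An invertible module which is trivial on the limit is trivial at a stage. -/
theorem exists_stage_trivial (i₀ : I) {L₀ : (D.obj i₀).Modules} (hL₀ : PicF.IsInvertible L₀)
    (h : Nonempty ((Scheme.Modules.pullback (c.π.app i₀)).obj L₀ ≅ Coh.structureModule c.pt)) :
    ∃ (i : I) (φ : i ⟶ i₀),
      Nonempty ((Scheme.Modules.pullback (D.map φ)).obj L₀ ≅ Coh.structureModule (D.obj i)) := by
  obtain ⟨c₀, ⟨e₀⟩⟩ := Ample.exists_cocycle hL₀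
  obtain ⟨e⟩ := c₀.nonempty_pullback_iso (c.π.app i₀) e₀
  obtain ⟨θ⟩ := h
  let d := c₀.comap (c.π.app i₀)
  let s : Coh.structureModule c.pt ⟶ d.twist 1 := θ.inv ≫ e.hom
  obtain ⟨b, hb⟩ := d.exists_hom_eq s
  have hlb : d.locus b = ⊤ := top_unique (d.mem_locus_of_surjective b fun W _ => by
    haveI : IsIso (d.hom b) := hb ▸ inferInstance
    have h1 := Scheme.Modules.Hom.isIso_iff_isIso_app.1 (inferInstance : IsIso (d.hom b)) W
    exact ((ConcreteCategory.isIso_iff_bijective _).1 h1).2)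
  obtain ⟨l, φ, hl⟩ := AmpSpread10.exists_sect_stage hc i₀ c₀ (fun _ : PUnit.{u+1} => 1) (fun _ => b)
  obtain ⟨a, ha⟩ := hl PUnit.unit
  let c₂ := c₀.comap (D.map φ)
  obtain ⟨i, χ, hi⟩ := exists_map_eq_top D c hc (c₂.locus a) (ha.trans hlb)
  refine ⟨i, χ ≫ φ, ?_⟩
  obtain ⟨e₂⟩ := c₀.nonempty_pullback_iso (D.map φ) e₀
  obtain ⟨e₃⟩ := c₂.nonempty_pullback_iso (D.map χ) e₂
  let a' := c₂.pullSect (D.map χ) (le_top : (⊤ : (D.obj i).Opens) ≤ D.map χ ⁻¹ᵁ ⊤) a
  haveI := (c₂.comap (D.map χ)).isIso_hom_of_locus_eq_top a' (by rw [c₂.locus_pullSect]; exact hi)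
  exact ⟨((Scheme.Modules.pullbackComp (D.map χ) (D.map φ)).app L₀ ≪≫
      (Scheme.Modules.pullbackCongr (D.map_comp χ φ).symm).app L₀).symm ≪≫ e₃ ≪≫
    (asIso ((c₂.comap (D.map χ)).hom a')).symm⟩

end Trivial

section Results

variable (p : ℕ) [Fact p.Prime] {X XP : Scheme.{u}} [FrobSch.IsCharP X p] [FrobSch.IsCharP XP p]
  [CompactSpace X] [QuasiSeparatedSpace X] {π : XP ⟶ X}

theorem isAmple_iff (hπ : FrobSch.IsPerfection π p) {L : X.Modules} (hL : PicF.IsInvertible L) :
    CohB1.IsAmple L ↔ CohB1.IsAmple ((Scheme.Modules.pullback π).obj L) := by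
  haveI : IsIntegralHom π := Frob.isIntegralHom_of_isPerfection hπ
  refine ⟨fun h => Ample.isAmple_pullback_of_isAffineHom π h, fun h => ?_⟩
  obtain ⟨c, hc, e, he⟩ := exists_limit p X hπ
  have h' : CohB1.IsAmple ((Scheme.Modules.pullback (c.π.app (st 0))).obj L) := by
    have h2 := Ample.isAmple_pullback_of_isAffineHom e.inv h
    rw [Ample.isAmple_pullback_comp_iff, ← he, Iso.inv_hom_id_assoc] at h2
    exact h2
  obtain ⟨i, φ, hi⟩ := AmpSpread10.exists_stage_isAmple hc (st 0) hL h'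
  obtain ⟨q⟩ := nonempty_pullback_fpow (p := p) hL (i.unop.down - 0)
  exact (Ample.isAmple_tensorPow_iff hL (pow_pos (Fact.out : p.Prime).pos _)).2
    ((Ample.isAmple_iff_of_iso q).1 hi)

theorem exists_eq_pullCl (hπ : FrobSch.IsPerfection π p) {M : XP.Modules} (hM : PicF.IsInvertible M) :
    ∃ (n : ℕ) (L : X.Modules), PicF.IsInvertible L ∧
      PicF.cl (CohB1.tensorPow M (p ^ n)) = PicF.pullCl π (PicF.cl L) := by
  obtain ⟨c, hc, e, he⟩ := exists_limit p X hπ
  obtain ⟨i, L, hL, ⟨θ⟩⟩ := AmpSpread10.exists_stage_invertible hc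
    (L := (Scheme.Modules.pullback e.inv).obj M) (Ample.isInvertible_pullback _ hM)
  let n := i.unop.down
  refine ⟨n, L, hL, cl_eq_iff.2 ?_⟩
  let f : XP ⟶ X := e.hom ≫ c.π.app i
  have hf : f ≫ fpow p X n = π := by
    have h := c.w (show i ⟶ st 0 from (homOfLE (show (⟨0⟩ : ULift.{u} ℕ) ≤ i.unop from Nat.zero_le _)).op)
    rw [← he, ← h, Category.assoc]
    rfl
  let δ : (Scheme.Modules.pullback f).obj L ≅ M :=
    ((Scheme.Modules.pullbackComp e.hom (c.π.app i)).app L).symm ≪≫ (Scheme.Modules.pullback e.hom).mapIso θ ≪≫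
      (Scheme.Modules.pullbackComp e.hom e.inv).app M ≪≫ (Scheme.Modules.pullbackCongr e.hom_inv_id).app M ≪≫
      (Scheme.Modules.pullbackId XP).app M
  obtain ⟨q⟩ := nonempty_pullback_fpow (p := p) (X := X) (L := L) hL n
  obtain ⟨p₁⟩ := Ample.nonempty_pullback_tensorPow f hL (p ^ n)
  obtain ⟨p₂⟩ := nonempty_tensorPow_congr hM δ (p ^ n)
  exact ⟨p₂.symm ≪≫ p₁.symm ≪≫ (Scheme.Modules.pullback f).mapIso q.symm ≪≫
    (Scheme.Modules.pullbackComp f (fpow p X n)).app L ≪≫ (Scheme.Modules.pullbackCongr hf).app L⟩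

theorem isTrivialCl_iff (hπ : FrobSch.IsPerfection π p) {L : X.Modules} (hL : PicF.IsInvertible L) :
    PicF.IsTrivialCl (PicF.pullCl π (PicF.cl L)) ↔
      ∃ n : ℕ, PicF.IsTrivialCl (PicF.cl (CohB1.tensorPow L (p ^ n))) := by
  obtain ⟨c, hc, e, he⟩ := exists_limit p X hπ
  constructor
  · intro h
    obtain ⟨θ⟩ := cl_eq_iff.1 h
    obtain ⟨v⟩ := Ample.nonempty_pullback_structureModule e.inv
    obtain ⟨i, φ, ⟨ψ⟩⟩ := exists_stage_trivial hc (st 0) hL
      ⟨(Scheme.Modules.pullbackCongr (show c.π.app (st 0) = e.inv ≫ π by rw [← he, Iso.inv_hom_id_assoc])).app L ≪≫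
        ((Scheme.Modules.pullbackComp e.inv π).app L).symm ≪≫ (Scheme.Modules.pullback e.inv).mapIso θ ≪≫ v⟩
    obtain ⟨q⟩ := nonempty_pullback_fpow (p := p) hL (i.unop.down - 0)
    exact ⟨_, cl_eq_iff.2 ⟨q.symm ≪≫ ψ⟩⟩
  · rintro ⟨n, h⟩
    obtain ⟨θ⟩ := cl_eq_iff.1 h
    obtain ⟨q⟩ := nonempty_pullback_fpow (p := p) hL n
    let f : XP ⟶ X := e.hom ≫ c.π.app (st n)
    have hf : f ≫ fpow p X n = π := by
      have h := c.w (show st n ⟶ st 0 from (homOfLE (show (⟨0⟩ : ULift.{u} ℕ) ≤ ⟨n⟩ from Nat.zero_le _)).op)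
      rw [← he, ← h, Category.assoc]
      rfl
    obtain ⟨v⟩ := Ample.nonempty_pullback_structureModule f
    exact cl_eq_iff.2 ⟨((Scheme.Modules.pullbackComp f (fpow p X n)).app L ≪≫
      (Scheme.Modules.pullbackCongr hf).app L).symm ≪≫ (Scheme.Modules.pullback f).mapIso (q ≪≫ θ) ≪≫ v⟩

end Results

end GrothLib.PerfLim10
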